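import Mathlib
import Cfsg.Agent.SPOR.HK.W

/-!
Finite facts on the model of `Γ₁` used in `HK/Out`.
-/

set_option autoImplicit false

namespace CL.HK.Ou

open CL.K

theorem en_lt (X i : ℕ) : en X i < 4 := Nat.lt_succ_of_le Nat.and_le_right

theorem en_mm (A B : ℕ) :
    en (mm A B) 0 = Nat.xor (fm (en A 0) (en B 0)) (fm (en A 1) (en B 2)) ∧
    en (mm A B) 1 = Nat.xor (fm (en A 0) (en B 1)) (fm (en A 1) (en B 3)) ∧
    en (mm A B) 2 = Nat.xor (fm (en A 2) (en B 0)) (fm (en A 3) (en B 2)) ∧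
    en (mm A B) 3 = Nat.xor (fm (en A 2) (en B 1)) (fm (en A 3) (en B 3)) := by
  have h : ∀ a b c d, Nat.xor (fm a b) (fm c d) < 4 := fun a b c d =>
    Nat.xor_lt_two_pow (fm_lt a b) (fm_lt c d)
  have k : ∀ p < 4, ∀ q < 4, ∀ r < 4, ∀ s < 4, en (mx p q r s) 0 = p ∧ en (mx p q r s) 1 = q ∧
      en (mx p q r s) 2 = r ∧ en (mx p q r s) 3 = s := by decide +kernel
  rw [mm, force_eq, force_eq]
  exact k _ (h ..) _ (h ..) _ (h ..) _ (h ..)

set_option synthInstance.maxSize 4096 in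
theorem mm_assoc (A B C : ℕ) : mm (mm A B) C = mm A (mm B C) := by
  have k : ∀ a0 < 4, ∀ a1 < 4, ∀ b0 < 4, ∀ b1 < 4, ∀ b2 < 4, ∀ b3 < 4, ∀ c0 < 4, ∀ c1 < 4,
      Nat.xor (fm (Nat.xor (fm a0 b0) (fm a1 b2)) c0) (fm (Nat.xor (fm a0 b1) (fm a1 b3)) c1) =
      Nat.xor (fm a0 (Nat.xor (fm b0 c0) (fm b1 c1))) (fm a1 (Nat.xor (fm b2 c0) (fm b3 c1))) := by
    decide +kernel
  have k' := fun a0 a1 c0 c1 => k _ (en_lt A a0) _ (en_lt A a1) _ (en_lt B 0) _ (en_lt B 1) _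
    (en_lt B 2) _ (en_lt B 3) _ (en_lt C c0) _ (en_lt C c1)
  obtain ⟨a0, a1, a2, a3⟩ := en_mm A B
  obtain ⟨b0, b1, b2, b3⟩ := en_mm B C
  generalize hX : mm A B = X at a0 a1 a2 a3
  generalize hY : mm B C = Y at b0 b1 b2 b3
  rw [mm, force_eq, force_eq, mm, force_eq, force_eq, a0, a1, a2, a3, b0, b1, b2, b3, k', k', k', k']

theorem fe_mm {e X Y : ℕ} (he : e < 4) (hX : X < 256) (hY : Y < 256) : fe e (mm X Y) =
    if e = 1 ∨ e = 2 then mm (fe e Y) (fe e X) else mm (fe e X) (fe e Y) := by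
  have := all2 (P := fun X Y => force (mm X Y) fun Z => Nat.beq (tp Z) (mm (tp Y) (tp X)) &&
    Nat.beq (cj Z) (mm (cj X) (cj Y)) && Nat.beq (tp (cj Z)) (mm (tp (cj Y)) (tp (cj X))))
    (by decide +kernel) hX hY
  simp only [force_eq, Bool.and_eq_true, Nat.beq_eq] at this
  interval_cases e
  exacts [rfl, this.2, this.1.1, this.1.2]

theorem fe_fe {e e' X : ℕ} (he : e < 4) (he' : e' < 4) (hX : X < 256) :
    fe e (fe e' X) = fe (e ^^^ e') X := by
  have : ∀ X < 256, ∀ e < 4, ∀ e' < 4, fe e (fe e' X) = fe (e ^^^ e') X := by decide +kernel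
  exact this _ hX _ he _ he'

theorem SL.fe {a e : ℕ} (ha : SL a) (he : e < 4) : SL (fe e a) :=
  ⟨fe_lt he ha.1, (det_fe he ha.1).2.2.2 ha.2⟩

theorem SL.mm {a b : ℕ} (ha : SL a) (hb : SL b) : SL (mm a b) :=
  ⟨mm_lt _ _, (det_mm ha hb.1).1.trans hb.2⟩

theorem act_act {a b e a' b' e' : ℕ} (ha : SL a) (hb : SL b) (he : e < 4) (ha' : SL a') (hb' : SL b')
    (he' : e' < 4) : ∃ c d, SL c ∧ SL d ∧ ∀ X < 256,
      act a b e (act a' b' e' X) = act c d (e ^^^ e') X := by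
  by_cases h : e = 1 ∨ e = 2
  · refine ⟨_, _, SL.mm ha (SL.fe hb' he), SL.mm (SL.fe ha' he) hb, fun X hX => ?_⟩
    simp only [act]
    rw [fe_mm he ha'.1 (mm_lt _ _), if_pos h, fe_mm he (fe_lt he' hX) hb'.1, if_pos h,
      fe_fe he he' hX]
    simp only [mm_assoc]
  · refine ⟨_, _, SL.mm ha (SL.fe ha' he), SL.mm (SL.fe hb' he) hb, fun X hX => ?_⟩
    simp only [act]
    rw [fe_mm he ha'.1 (mm_lt _ _), if_neg h, fe_mm he (fe_lt he' hX) hb'.1, if_neg h,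
      fe_fe he he' hX]
    simp only [mm_assoc]

/-- the adjugate -/
noncomputable abbrev aj : ℕ → ℕ := act 20 20 2

theorem sl20 : SL 20 := by unfold SL; decide +kernel

/-- triples which are trivial on the trace zero codes modulo scalars -/
theorem two_tr {a b e : ℕ} (ha : SL a) (hb : SL b) (he : e < 4)
    (h0 : act a b e 65 ^^^ 65 ∈ [0, 65])
    (H : ∀ X ∈ [4, 8, 16, 32], act a b e X ^^^ X ∈ [0, 65] ∨
      act a b e (X ^^^ 130) ^^^ (X ^^^ 130) ∈ [0, 65]) :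
    (a = 65 ∧ b = 65 ∧ e = 0) ∨ (a = 20 ∧ b = 20 ∧ e = 2) := by
  let p : ℕ → ℕ → ℕ → ℕ → Bool := fun a b e X => force (Nat.xor (act a b e X) X) fun Y =>
    Nat.beq Y 0 || Nat.beq Y 65
  have hp : ∀ X, act a b e X ^^^ X ∈ [0, 65] → p a b e X = true := fun X h => by
    simp only [p, force_eq, Bool.or_eq_true, Nat.beq_eq]
    simpa using h
  have := allT_spec (n := 4) (P := fun a b e => !(p a b e 65 && [4, 8, 16, 32].all fun X =>
    p a b e X || p a b e (Nat.xor X 130)) || (Nat.beq a 65 && Nat.beq b 65 && Nat.beq e 0 ||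
      Nat.beq a 20 && Nat.beq b 20 && Nat.beq e 2)) (by decide +kernel) ha hb he
  rw [Bool.or_eq_true, Bool.not_eq_true', Bool.eq_false_iff] at this
  rcases this with h1 | h1
  · refine absurd (Bool.and_eq_true_iff.2 ⟨hp _ h0, List.all_eq_true.2 fun X hX => ?_⟩) h1
    exact Bool.or_eq_true_iff.2 ((H X hX).imp (hp _) (hp _))
  · simpa [and_assoc] using h1

theorem act_id : ∀ X < 256, act 65 65 0 X = X := by decide +kernel

theorem aj_facts : ∀ X < 256, aj (aj X) = X ∧ aj X ^^^ X ∈ [0, 65, 130, 195] ∧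
    (aj X = X → bf X 130 = false ∧ aj (X ^^^ 130) = X ^^^ 130) := by decide +kernel

theorem e_zero {a b e : ℕ} (ha : SL a) (hb : SL b) (he : e < 4) (h : ∀ X < 256, act a b e X = X) :
    e = 0 := by
  rcases two_tr ha hb he (by rw [h _ (by norm_num)]; decide) (fun X hX => .inl (by
    rw [h X (by revert X; decide), Nat.xor_self]; decide)) with k | ⟨rfl, rfl, rfl⟩
  · exact k.2.2
  · exact absurd (h 1 (by norm_num)) (by decide +kernel)

theorem sq_code : (∀ p ∈ [(69, 69), (81, 81), (194, 131)], (p.1 < 256 ∧ det p.1 = 1) ∧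
    (p.2 < 256 ∧ det p.2 = 1) ∧ ∀ X < 256, act p.1 p.2 0 (aj X) = aj (act p.1 p.2 0 X)) ∧
    ∀ Z < 256, aj Z = Z → (∀ p ∈ [(69, 69), (81, 81), (194, 131)],
      act p.1 p.2 0 Z ^^^ Z ∈ [0, 65, 130, 195]) → ∃ X < 4, X ^^^ aj X ^^^ Z = 0 := by
  decide +kernel

theorem perp : ∀ Z < 256, aj Z = Z → (∀ X ∈ [4, 8, 16, 32], bf Z X = false) →
    Z ∈ [0, 65, 130, 195] := by decide +kernel

theorem three_fix {a b e : ℕ} (ha : SL a) (hb : SL b) (he : e < 4)
    (h : ∀ X < 256, act a b e (act a b e X) = X) : ∃ X < 256, ∃ Y < 256, ∃ Z < 256,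
      act a b e X = X ∧ act a b e Y = Y ∧ act a b e Z = Z ∧ X ≠ 0 ∧ Y < X ∧ Y ≠ 0 ∧ Z < Y ∧ Z ≠ 0 ∧
        Z ≠ X ^^^ Y := by
  have := allT_spec (n := 4) (P := fun a b e => !([1, 2, 4, 8, 16, 32, 64, 128].all fun X =>
    Nat.beq (act a b e (act a b e X)) X) || anyLt (fun X => force X fun X =>
      Nat.beq (act a b e X) X && anyLt (fun Y => force Y fun Y => Nat.beq (act a b e Y) Y &&
        anyLt (fun Z => force Z fun Z => Nat.beq (act a b e Z) Z && !Nat.beq Z 0 &&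
          !Nat.beq Z (Nat.xor X Y)) Y) X) 256) (by decide +kernel) ha hb he
  rw [Bool.or_eq_true, Bool.not_eq_true', Bool.eq_false_iff] at this
  rcases this with h1 | h1
  · exact absurd (List.all_eq_true.2 fun X hX => Nat.beq_eq ▸ h X (by revert X; decide)) h1
  · simp only [anyLt_iff, force_eq, Bool.and_eq_true, Nat.beq_eq, Bool.not_eq_true',
      Bool.eq_false_iff, Ne] at h1
    obtain ⟨X, hX, h1, Y, hY, h2, Z, hZ, ⟨h3, h4⟩, h5⟩ := h1
    exact ⟨X, hX, Y, by omega, Z, by omega, h1, h2, h3, by omega, hY, by omega, hZ, h4, h5⟩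

theorem odd_iff {a b e : ℕ} (ha : SL a) (hb : SL b) (he : e < 4) (h : act a b e 4 = 4) :
    2 ≤ e ↔ (∃ X < 256, U0 X = true ∧ det X ≠ 0 ∧ det (act a b e X ^^^ X) = 0) ∧
      ∃ X < 256, U0 X = true ∧ det (act a b e X ^^^ X) ≠ 0 := by
  have := allT_spec (n := 4) (P := fun a b e => !Nat.beq (act a b e 4) 4 || (Nat.ble 2 e ==
    (anyLt (fun X => force X fun X => U0 X && !Nat.beq (det X) 0 &&
      Nat.beq (det (Nat.xor (act a b e X) X)) 0) 256 && anyLt (fun X => force X fun X => U0 X &&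
        !Nat.beq (det (Nat.xor (act a b e X) X)) 0) 256))) (by decide +kernel) ha hb he
  simp only [h, Nat.beq_refl, Bool.not_true, Bool.false_or, beq_iff_eq] at this
  rw [← Nat.ble_eq, this]
  simp only [anyLt_iff, force_eq, Bool.and_eq_true, Nat.beq_eq, Bool.not_eq_true',
    Bool.eq_false_iff, Ne, and_assoc]
  rfl

theorem det_zero : ∀ X < 256, det X = 0 ↔ X = 0 ∨ rk X = true := by decide +kernel

end CL.HK.Ou
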