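import Mathlib
import Cfsg.Agent.SPOR.HK.OutA
import Cfsg.Agent.TECH.ExtTransfer

/-!
In a simple group only `Γ₀` is induced (extremal Thompson transfer).
-/

set_option autoImplicit false

namespace CL.HK

open CL.K Subgroup

variable {G : Type*} [Group G] {t : G} {E : Subgroup G} {κ : G → ℕ}

namespace Ou

/-- `g` acts through a triple of type `e` -/
def Ty (t : G) (E : Subgroup G) (κ : G → ℕ) (g : G) (e : ℕ) : Prop :=
  e < 4 ∧ ∃ a b, SL a ∧ SL b ∧ Ac t E κ g (act a b e)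

variable (h : Kt 4 t E κ)
include h

theorem ty_ex {g : G} (hg : g * t = t * g) : ∃ e, Ty t E κ g e := by
  obtain ⟨a, b, e, ha, hb, he, k⟩ := h.ac g hg
  exact ⟨e, he, a, b, ha, hb, k⟩

theorem ty_mul {g g' : G} {e e' : ℕ} (k : Ty t E κ g e) (k' : Ty t E κ g' e') :
    Ty t E κ (g * g') (e ^^^ e') := by
  obtain ⟨he, a, b, ha, hb, k⟩ := k
  obtain ⟨he', a', b', ha', hb', k'⟩ := k'
  obtain ⟨c, d, hc, hd, e1⟩ := act_act ha hb he ha' hb' he'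
  exact ⟨Nat.xor_lt_two_pow (n := 2) he he', c, d, hc, hd, (h.acm k k').congr h.toEK e1⟩

theorem ty_uniq {g : G} {e e' : ℕ} (k : Ty t E κ g e) (k' : Ty t E κ g e') : e = e' := by
  have k1 : ∀ e, Ty t E κ (g * g⁻¹) e → e = 0 := fun e ⟨he, a, b, ha, hb, k⟩ =>
    e_zero ha hb he fun X hX => k.unique h.toEK (h.toEK.ac_mem (mul_inv_cancel g ▸ E.one_mem)) hX
  obtain ⟨a, b, -, -, c⟩ := k.2
  obtain ⟨d, hd⟩ := ty_ex h (comm_inv c.1)
  exact (Nat.xor_eq_zero_iff.1 (k1 _ (ty_mul h k hd))).trans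
    (Nat.xor_eq_zero_iff.1 (k1 _ (ty_mul h k' hd))).symm

theorem exists_hom : ∃ ϕ : centralizer ({t} : Set G) →* Multiplicative (ZMod 2),
    ∀ g : centralizer ({t} : Set G), ∀ e, Ty t E κ g e → (ϕ g = 1 ↔ e < 2) := by
  choose ε hε using fun g : centralizer ({t} : Set G) =>
    ty_ex h (mem_centralizer_singleton_iff.1 g.2)
  have k : ∀ e < 4, ∀ e' < 4, (((e ^^^ e') / 2 : ℕ) : ZMod 2) = (e / 2 : ℕ) + (e' / 2 : ℕ) := by decide
  have k' : ∀ e < 4, ((e / 2 : ℕ) : ZMod 2) = 0 ↔ e < 2 := by decide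
  refine ⟨MonoidHom.mk' (fun g => Multiplicative.ofAdd ((ε g / 2 : ℕ) : ZMod 2)) fun g g' => ?_,
    fun g e he => ?_⟩
  · rw [← ofAdd_add, ← k _ (hε g).1 _ (hε g').1, ty_uniq h (hε (g * g')) (ty_mul h (hε g) (hε g'))]
  · rw [ty_uniq h he (hε g)]
    exact k' _ (hε g).1

theorem pE : IsPGroup 2 E := fun y => ⟨2, Subtype.ext (by
  rw [SubgroupClass.coe_pow, show 2 ^ 2 = 2 * 2 from rfl, pow_mul, pow_two (y : G), h.sq _ y.2]
  cases q (κ y) <;> simp [pow_two, h.tt])⟩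

theorem odd_index [Finite G] : Odd (centralizer ({t} : Set G)).index := by
  have : Fact (Nat.Prime 2) := ⟨Nat.prime_two⟩
  obtain ⟨S, hS⟩ := (pE h).exists_le_sylow
  have : Nontrivial S := ⟨⟨⟨t, hS h.tE⟩, 1, fun e => h.t1 (congrArg Subtype.val e)⟩⟩
  have := S.isPGroup'.center_nontrivial
  obtain ⟨⟨z, hz⟩, z1⟩ := exists_ne (1 : center S)
  have c : ∀ s ∈ (S : Subgroup G), s * z = z * s := fun s hs =>
    congrArg Subtype.val (mem_center_iff.1 hz ⟨s, hs⟩)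
  have zE : (z : G) ∈ E := h.ker _ ⟨(c t (hS h.tE)).symm, fun y hy => by
    rw [← c y (hS hy), mul_inv_cancel_right]; rfl⟩
  have z0 : κ z = 0 := by
    by_contra e
    obtain ⟨Z, hZ, b⟩ := bf_nd _ (h.lt _ zE) e true
    obtain ⟨y, hy, rfl⟩ := h.surj Z hZ
    rw [(h.toEK.comm_iff hy zE).1 (c y (hS hy))] at b
    exact absurd b (by decide)
  have zt := ((h.zero _ zE).1 z0).resolve_left fun e => z1 (Subtype.ext (Subtype.ext e))
  have hle : (S : Subgroup G) ≤ centralizer {t} := fun s hs =>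
    mem_centralizer_singleton_iff.2 (zt ▸ c s hs)
  exact Nat.not_even_iff_odd.1 fun e => S.not_dvd_index
    ((even_iff_two_dvd.1 e).trans (index_dvd_of_le hle))

theorem κ_comm {c x : G} {f : ℕ → ℕ} (hc : Ac t E κ c f) (hx : x ∈ E) :
    c * x * c⁻¹ * x⁻¹ ∈ E ∧ κ (c * x * c⁻¹ * x⁻¹) = f (κ x) ^^^ κ x :=
  ⟨E.mul_mem (h.nrm c hc.1 x hx) (E.inv_mem hx), by
    rw [h.mul _ (h.nrm c hc.1 x hx) _ (E.inv_mem hx), hc.2 x hx, h.toEK.κ_inv hx]⟩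

theorem exists_aj {g : G} {e : ℕ} (k : Ty t E κ g e) (he : 2 ≤ e) : ∃ f, Ac t E κ f aj := by
  obtain ⟨a, b, ha, hb, c⟩ := k.2
  obtain ⟨d, hd⟩ := ty_ex h (comm_inv c.1)
  have e1 : d = e := by
    have := ty_mul h hd k
    rw [inv_mul_cancel] at this
    exact Nat.xor_eq_zero_iff.1 (ty_uniq h this ⟨by norm_num, 65, 65, by unfold SL; decide +kernel,
      by unfold SL; decide +kernel, (h.toEK.ac_mem E.one_mem).congr h.toEK fun X hX =>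
        (act_id X hX).symm⟩)
  subst e1
  obtain ⟨h4, a', b', ha', hb', c'⟩ := hd
  obtain ⟨p, r, hp, hr, e2⟩ := act_act sl20 sl20 (by norm_num : 2 < 4) ha' hb' h4
  obtain ⟨m, hm⟩ := h.ex hp hr (e := 2 ^^^ d) (by interval_cases d <;> decide)
  refine ⟨m * g, (h.acm hm c).congr h.toEK fun X hX => ?_⟩
  have := (h.acm c' c).unique h.toEK (h.toEK.ac_mem (inv_mul_cancel g ▸ E.one_mem)) hX
  rw [Function.comp_apply, ← e2 _ (act_lt ..)]
  exact congrArg aj this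

theorem sq_aj {f x : G} (hf : Ac t E κ f aj) (hx : x ∈ E) : Ac t E κ (x * f) aj ∧ f * f ∈ E ∧
    x * f * (x * f) = x * (f * x * f⁻¹) * (f * f) ∧
    κ (x * f * (x * f)) = κ x ^^^ aj (κ x) ^^^ κ (f * f) := by
  have h1 : f * f ∈ E := h.ker _ ((h.acm hf hf).congr h.toEK fun X hX => (aj_facts X hX).1)
  have h2 : x * f * (x * f) = x * (f * x * f⁻¹) * (f * f) := by group
  have h3 := h.nrm f hf.1 x hx
  exact ⟨h.acm (f := id) (h.toEK.ac_mem hx) hf, h1, h2, by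
    rw [h2, h.mul _ (E.mul_mem hx h3) _ h1, h.mul _ hx _ h3, hf.2 x hx]⟩

theorem exists_inv {f : G} (hf : Ac t E κ f aj) : ∃ y, Ac t E κ y aj ∧ y * y = 1 := by
  have h1 := (sq_aj h hf E.one_mem).2.1
  obtain ⟨X, hX, e⟩ := sq_code.2 _ (h.lt _ h1) (by
    rw [← hf.2 _ h1, ← mul_assoc, mul_inv_cancel_right]) fun p hp => by
      obtain ⟨ha, hb, c⟩ := sq_code.1 p hp
      obtain ⟨g, hg⟩ := h.ex (e := 0) ha hb (by norm_num)
      have h0 := h.acm hf hg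
      have h2 := h.nrm _ h0.1 _ (h.same ((h.acm hg hf).congr h.toEK c) h0)
      rw [show f * g * ((f * g)⁻¹ * (g * f)) * (f * g)⁻¹ = g * f * g⁻¹ * f⁻¹ by group] at h2
      have h3 := (sq_aj h hf h2).2.2.2
      rw [inv_mul_cancel_right, conj_mul, hg.2 _ h1] at h3
      rw [h3, Nat.xor_assoc, Nat.xor_self, Nat.xor_zero, Nat.xor_comm]
      exact (aj_facts _ (h.lt _ h2)).2.1
  obtain ⟨x, hx, rfl⟩ := h.surj X (by omega)
  obtain ⟨k1, -, -, k2⟩ := sq_aj h hf hx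
  rw [e] at k2
  generalize x * f = y at k1 k2
  rcases (h.zero _ (sq_aj h k1 E.one_mem).2.1).1 k2 with e1 | e1
  · exact ⟨y, k1, e1⟩
  have key : ∀ w ∈ E, w * (y * w * y⁻¹) = t → ∃ y, Ac t E κ y aj ∧ y * y = 1 := fun w hw e2 =>
    ⟨w * y, (sq_aj h k1 hw).1, by rw [(sq_aj h k1 hw).2.2.1, e2, e1, h.tt]⟩
  have sg : ∀ w ∈ E, aj (κ w) = κ w → q (κ w) = false → y * w * y⁻¹ = w ∨ w * (y * w * y⁻¹) = t :=
    fun w hw a b => (h.toEK.eq_or (h.nrm y k1.1 w hw) hw ((k1.2 w hw).trans a)).imp_right fun e => by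
      rw [e, ← mul_assoc, (h.toEK.sq_one hw).2 b, one_mul]
  obtain ⟨v, hv, ev⟩ := h.surj 4 (by norm_num)
  obtain ⟨w, hw, ew⟩ := h.surj 48 (by norm_num)
  rcases sg v hv (by rw [ev]; decide +kernel) (by rw [ev]; decide +kernel) with a | a
  · rcases sg w hw (by rw [ew]; decide +kernel) (by rw [ew]; decide +kernel) with b | b
    · refine key (v * w) (E.mul_mem hv hw) ?_
      rw [← conj_mul, a, b, h.toEK.sq_t (E.mul_mem hv hw), h.mul v hv w hw, ev, ew]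
      decide +kernel
    · exact key w hw b
  · exact key v hv a

/-- `y` centralises the lifts of the code `X` -/
def Cen (E : Subgroup G) (κ : G → ℕ) (y : G) (X : ℕ) : Prop := ∃ x ∈ E, κ x = X ∧ y * x = x * y

theorem Cen.comm {y x : G} (hy : y * t = t * y) (hx : x ∈ E) (c : Cen E κ y (κ x)) :
    y * x = x * y := by
  obtain ⟨w, hw, e, c⟩ := c
  rcases h.toEK.eq_or hx hw e.symm with rfl | rfl
  · exact c
  · exact (Commute.mul_right c hy).eq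

theorem Cen.xor {y : G} {X Y : ℕ} (a : Cen E κ y X) (b : Cen E κ y Y) : Cen E κ y (X ^^^ Y) := by
  obtain ⟨x, hx, rfl, a⟩ := a
  obtain ⟨w, hw, rfl, b⟩ := b
  exact ⟨x * w, E.mul_mem hx hw, h.mul x hx w hw, (Commute.mul_right a b).eq⟩

theorem cen_two {y : G} {f : ℕ → ℕ} (hy : Ac t E κ y f) {X Y : ℕ} (hX : X < 256) (hY : Y < 256)
    (a : f X = X) (b : f Y = Y) : Cen E κ y X ∨ Cen E κ y Y ∨ Cen E κ y (X ^^^ Y) := by
  obtain ⟨x, hx, rfl⟩ := h.surj X hX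
  obtain ⟨w, hw, rfl⟩ := h.surj Y hY
  rcases h.toEK.eq_or (h.nrm y hy.1 x hx) hx ((hy.2 x hx).trans a) with e | e
  · exact .inl ⟨x, hx, rfl, mul_inv_eq_iff_eq_mul.1 e⟩
  rcases h.toEK.eq_or (h.nrm y hy.1 w hw) hw ((hy.2 w hw).trans b) with e' | e'
  · exact .inr (.inl ⟨w, hw, rfl, mul_inv_eq_iff_eq_mul.1 e'⟩)
  refine .inr (.inr ⟨x * w, E.mul_mem hx hw, h.mul x hx w hw, mul_inv_eq_iff_eq_mul.1 ?_⟩)
  rw [← conj_mul, e, e', mul_assoc, ← mul_assoc t, ← h.ct w hw, mul_assoc w, h.tt, mul_one]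

theorem lemA {y : G} (hy : Ac t E κ y aj) (yy : y * y = 1) : Cen E κ y 65 ∧ ¬ Cen E κ y 130 ∧
    ∀ X ∈ [4, 8, 16, 32], Cen E κ y X ∨ Cen E κ y (X ^^^ 130) := by
  have iv : ∀ x, y * (y * x * y⁻¹ * x⁻¹) * y⁻¹ = (y * x * y⁻¹ * x⁻¹)⁻¹ := fun x => by
    calc _ = y * y * (x * y⁻¹ * x⁻¹ * y⁻¹) := by group
      _ = x * y * (y * y)⁻¹ * x⁻¹ * y⁻¹ := by rw [yy]; nth_rewrite 1 [← inv_eq_of_mul_eq_one_left yy]; group
      _ = _ := by rw [yy]; group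
  obtain ⟨v, hv, ev⟩ := h.surj 1 (by norm_num)
  obtain ⟨w, hw, ew⟩ := h.surj 2 (by norm_num)
  obtain ⟨a1, a2⟩ := κ_comm h hy hv
  obtain ⟨b1, b2⟩ := κ_comm h hy hw
  have a3 := iv v
  have b3 := iv w
  rw [ev, show aj 1 ^^^ 1 = 65 by decide +kernel] at a2
  rw [ew, show aj 2 ^^^ 2 = 130 by decide +kernel] at b2
  generalize y * v * y⁻¹ * v⁻¹ = u at a1 a2 a3
  generalize y * w * y⁻¹ * w⁻¹ = i at b1 b2 b3
  have n : ¬ Cen E κ y 130 := fun c => by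
    rw [Cen.comm h hy.1 b1 (b2 ▸ c), mul_inv_cancel_right, eq_inv_iff_mul_eq_one,
      h.toEK.sq_one b1, b2] at b3
    exact absurd b3 (by decide +kernel)
  refine ⟨⟨u, a1, a2, mul_inv_eq_iff_eq_mul.1 (a3.trans (inv_eq_of_mul_eq_one_left
    ((h.toEK.sq_one a1).2 (by rw [a2]; decide +kernel))))⟩, n, fun X hX => ?_⟩
  have : X < 256 ∧ aj X = X := by revert X; decide +kernel
  exact (cen_two h hy this.1 (by norm_num) this.2 (by decide +kernel)).imp_right (·.resolve_left n)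

theorem lemA' {y n : G} (hy : Ac t E κ y aj) (yy : y * y = 1) (hn : n ∈ E) (c : y * n = n * y)
    (c' : ∀ a ∈ E, y * a = a * y → n * a = a * n) : κ n ∈ [0, 65] := by
  obtain ⟨a1, a2, a3⟩ := lemA h hy yy
  have f : aj (κ n) = κ n := by rw [← hy.2 n hn, c, mul_inv_cancel_right]
  have k : ∀ Z < 256, bf Z 130 = false → ∀ X ∈ [4, 8, 16, 32], bf Z (X ^^^ 130) = bf Z X := by
    decide +kernel
  have b : ∀ X, Cen E κ y X → bf (κ n) X = false := fun X ⟨x, hx, e, cx⟩ =>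
    e ▸ (h.toEK.comm_iff hn hx).1 (c' x hx cx)
  have := perp _ (h.lt n hn) f fun X hX => (a3 X hX).elim (b X) fun e =>
    k _ (h.lt n hn) ((aj_facts _ (h.lt n hn)).2.2 f).1 X hX ▸ b _ e
  have cn : Cen E κ y (κ n) := ⟨n, hn, rfl, c⟩
  simp only [List.mem_cons, List.not_mem_nil, or_false] at this ⊢
  rcases this with e | e | e | e
  exacts [.inl e, .inr e, absurd (e ▸ cn) a2, absurd (Cen.xor h (e ▸ cn) a1) a2]

theorem dich {y c : G} (hy : Ac t E κ y aj) (yy : y * y = 1) (hc : c * t = t * c)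
    (H : ∀ a ∈ E, y * a = a * y → κ (c * a * c⁻¹ * a⁻¹) ∈ [0, 65]) : c ∈ E ∨ Ac t E κ c aj := by
  obtain ⟨a1, -, a3⟩ := lemA h hy yy
  obtain ⟨a, b, e, ha, hb, he, k⟩ := h.ac c hc
  have b : ∀ X, Cen E κ y X → act a b e X ^^^ X ∈ [0, 65] := fun X ⟨x, hx, e, cx⟩ =>
    e ▸ (κ_comm h k hx).2 ▸ H x hx cx
  rcases two_tr ha hb he (b _ a1) fun X hX => (a3 X hX).imp (b _) (b _) with
    ⟨rfl, rfl, rfl⟩ | ⟨rfl, rfl, rfl⟩
  exacts [.inl (h.ker c (k.congr h.toEK act_id)), .inr k]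

theorem two_cen {y : G} (hy : y * t = t * y) (yy : y * y = 1) :
    ∃ X Y, Cen E κ y X ∧ Cen E κ y Y ∧ X ≠ 0 ∧ Y ≠ 0 ∧ X ≠ Y := by
  obtain ⟨a, b, e, ha, hb, he, k⟩ := h.ac y hy
  obtain ⟨X, hX, Y, hY, Z, hZ, x, y', z, x0, xy, y0, yz, z0, e⟩ := three_fix ha hb he fun X hX =>
    (h.acm k k).unique h.toEK (h.toEK.ac_mem (yy ▸ E.one_mem)) hX
  have n : ∀ {A B : ℕ}, A ≠ B → A ^^^ B ≠ 0 := fun a b => a (Nat.xor_eq_zero_iff.1 b)
  have r : ∀ {A B C : ℕ}, A = B ^^^ C → C = B ^^^ A := fun a => by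
    rw [a, ← Nat.xor_assoc, Nat.xor_self, Nat.zero_xor]
  by_cases cx : Cen E κ y X
  · rcases cen_two h k hY hZ y' z with c | c | c
    exacts [⟨X, Y, cx, c, x0, y0, by omega⟩, ⟨X, Z, cx, c, x0, z0, by omega⟩,
      ⟨X, _, cx, c, x0, n (by omega), fun e' => e (Nat.xor_comm X Y ▸ r e')⟩]
  rcases (cen_two h k hX hY x y').resolve_left cx with c | c <;>
    rcases (cen_two h k hX hZ x z).resolve_left cx with c' | c'
  · exact ⟨Y, Z, c, c', y0, z0, by omega⟩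
  · exact ⟨Y, _, c, c', y0, n (by omega), fun e' => e (r e')⟩
  · exact ⟨_, Z, c, c', n (by omega), z0, fun e' => e e'.symm⟩
  · exact ⟨_, _, c, c', n (by omega), n (by omega), fun e' => by
      have := r e'
      rw [← Nat.xor_assoc, Nat.xor_self, Nat.zero_xor] at this
      omega⟩

theorem lemC {g : G} (hd : Ac t E κ (g * t * g⁻¹) aj) : False := by
  have dd : g * t * g⁻¹ * (g * t * g⁻¹) = 1 := by rw [conj_mul, h.tt]; group
  have dE : g * t * g⁻¹ ∉ E := fun e =>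
    absurd (hd.unique h.toEK (h.toEK.ac_mem e) (X := 1) (by norm_num)) (by decide +kernel)
  have τE : g⁻¹ * t * g ∉ E := fun e => dE (by
    have := h.symm (g := g⁻¹) (by rwa [inv_inv])
    rwa [inv_inv] at this)
  have cz : ∀ a, g * t * g⁻¹ * a = a * (g * t * g⁻¹) → g⁻¹ * a * g * t = t * (g⁻¹ * a * g) :=
    fun a e => by
      calc _ = g⁻¹ * (a * (g * t * g⁻¹)) * g := by group
        _ = _ := by rw [← e]; group
  have cm : ∀ a n, g * t * g⁻¹ * a = a * (g * t * g⁻¹) → g⁻¹ * n * g ∈ E →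
      g⁻¹ * (n * a * n⁻¹ * a⁻¹) * g ∈ E := fun a n e hn => by
    rw [show g⁻¹ * (n * a * n⁻¹ * a⁻¹) * g =
      g⁻¹ * n * g * (g⁻¹ * a * g * (g⁻¹ * n * g)⁻¹ * (g⁻¹ * a * g)⁻¹) by group]
    exact E.mul_mem hn (h.nrm _ (cz a e) _ (E.inv_mem hn))
  have N : ∀ n ∈ E, g⁻¹ * n * g ∈ E → κ n ∈ [0, 65] := fun n hn hn' => by
    refine lemA' h hd dd hn ?_ fun a ha e => ?_
    · calc _ = g * (t * (g⁻¹ * n * g)) * g⁻¹ := by group
        _ = _ := by rw [← h.ct _ hn']; group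
    · by_contra c
      have h1 := cm a n e hn'
      rw [h.toEK.comm_iff hn ha, Bool.not_eq_false] at c
      rw [h.toEK.conj_eq hn ha, c, cond_true, h.ct a ha, mul_inv_cancel_right] at h1
      exact τE h1
  have N1 : ∀ n ∈ E, g⁻¹ * n * g ∈ E → κ n = 0 → κ (g⁻¹ * n * g) = 0 := fun n hn hn' e => by
    rcases (h.zero n hn).1 e with rfl | rfl
    · rw [mul_one, inv_mul_cancel, h.toEK.κ_one]
    · exact absurd hn' τE
  have F : ∀ X, Cen E κ (g⁻¹ * t * g) X → ∃ n ∈ E, g⁻¹ * n * g ∈ E ∧ κ (g⁻¹ * n * g) = X := by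
    rintro _ ⟨x, hx, rfl, c⟩
    have c1 : g * x * g⁻¹ * t = t * (g * x * g⁻¹) := by
      calc _ = g * (x * (g⁻¹ * t * g)) * g⁻¹ := by group
        _ = _ := by rw [← c]; group
    have c2 : g⁻¹ * (g * x * g⁻¹) * g = x := by group
    rcases dich h hd dd c1 fun a ha e => N _ (E.mul_mem (h.nrm _ c1 a ha) (E.inv_mem ha))
      (cm a _ e (c2.symm ▸ hx)) with k | k
    · exact ⟨_, k, c2.symm ▸ hx, by rw [c2]⟩
    · have c3 : g⁻¹ * ((g * x * g⁻¹)⁻¹ * (g * t * g⁻¹)) * g = x⁻¹ * t := by group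
      exact ⟨_, h.same hd k, c3.symm ▸ E.mul_mem (E.inv_mem hx) h.tE, by
        rw [c3, h.toEK.κ_mul_t (E.inv_mem hx), h.toEK.κ_inv hx]⟩
  obtain ⟨X, Y, a, b, x0, y0, xy⟩ := two_cen h (cz t hd.1) (by
    rw [show g⁻¹ * t * g * (g⁻¹ * t * g) = g⁻¹ * (t * t) * g by group, h.tt]; group)
  obtain ⟨n, hn, hn', rfl⟩ := F X a
  obtain ⟨m, hm, hm', rfl⟩ := F Y b
  have s : ∀ n ∈ E, g⁻¹ * n * g ∈ E → κ (g⁻¹ * n * g) ≠ 0 → κ n = 65 := fun n hn hn' e => by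
    simpa [show κ n ≠ 0 from fun e' => e (N1 n hn hn' e')] using N n hn hn'
  have e : g⁻¹ * (n * m) * g = g⁻¹ * n * g * (g⁻¹ * m * g) := by group
  have := N1 _ (E.mul_mem hn hm) (e ▸ E.mul_mem hn' hm') (by
    rw [h.mul n hn m hm, s n hn hn' x0, s m hm hm' y0]; rfl)
  rw [e, h.mul _ hn' _ hm'] at this
  exact xy (Nat.xor_eq_zero_iff.1 this)

/-- trivial or conjugate to `t` -/
def Pt (t w : G) : Prop := w = 1 ∨ IsConj t w

theorem pt_iff {w : G} (hw : w ∈ E) : Pt t w ↔ det (κ w) = 0 := by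
  rw [det_zero _ (h.lt w hw), h.zero w hw, Pt, h.cls w hw, or_assoc]

omit h in
theorem pt_conj (g w : G) : Pt t (g * w * g⁻¹) ↔ Pt t w :=
  or_congr conj_eq_one_iff ⟨fun c => c.trans (isConj_iff.2 ⟨g, rfl⟩).symm,
    fun c => c.trans (isConj_iff.2 ⟨g, rfl⟩)⟩

/-- `c` induces a transposition on `B / V` -/
def Od (t : G) (E : Subgroup G) (κ : G → ℕ) (c : G) : Prop :=
  (∃ x ∈ E, U0 (κ x) = true ∧ ¬ Pt t x ∧ Pt t (c * x * c⁻¹ * x⁻¹)) ∧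
    ∃ x ∈ E, U0 (κ x) = true ∧ ¬ Pt t (c * x * c⁻¹ * x⁻¹)

theorem od_iff {c v : G} {e : ℕ} (k : Ty t E κ c e) (hv : v ∈ E) (ev : κ v = 4)
    (cv : c * v = v * c) : Od t E κ c ↔ 2 ≤ e := by
  obtain ⟨he, a, b, ha, hb, k⟩ := k
  rw [odd_iff ha hb he (by rw [← ev, ← k.2 v hv, cv, mul_inv_cancel_right])]
  have p : ∀ x ∈ E, Pt t (c * x * c⁻¹ * x⁻¹) ↔ det (act a b e (κ x) ^^^ κ x) = 0 := fun x hx => by
    rw [pt_iff h (κ_comm h k hx).1, (κ_comm h k hx).2]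
  refine and_congr ⟨fun ⟨x, hx, a1, a2, a3⟩ => ⟨_, h.lt x hx, a1, mt (pt_iff h hx).2 a2,
    (p x hx).1 a3⟩, fun ⟨X, hX, a1, a2, a3⟩ => ?_⟩ ⟨fun ⟨x, hx, a1, a2⟩ => ⟨_, h.lt x hx, a1,
      mt (p x hx).2 a2⟩, fun ⟨X, hX, a1, a2⟩ => ?_⟩ <;> obtain ⟨x, hx, rfl⟩ := h.surj X hX
  exacts [⟨x, hx, a1, mt (pt_iff h hx).1 a2, (p x hx).2 a3⟩, ⟨x, hx, a1, mt (p x hx).1 a2⟩]

theorem od_conj {c g v : G} (hv : v ∈ E) (ev : κ v = 4) (g1 : g * t * g⁻¹ = v)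
    (g2 : g⁻¹ * t * g = v) (o : Od t E κ c) : Od t E κ (g * c * g⁻¹) := by
  have B : ∀ x ∈ E, U0 (κ x) = true → g * x * g⁻¹ ∈ E ∧ U0 (κ (g * x * g⁻¹)) = true := fun x hx u => by
    have h1 := (h.memU4 le_rfl (g := g⁻¹) (by rwa [inv_inv, g2]) (by rwa [inv_inv, g2]) hx).2 u
    rw [inv_inv] at h1
    exact ⟨h1, (h.memU4 le_rfl (g1 ▸ hv) (g1 ▸ ev) h1).1 (by
      rwa [show g⁻¹ * (g * x * g⁻¹) * g = x by group])⟩
  have e : ∀ x, g * c * g⁻¹ * (g * x * g⁻¹) * (g * c * g⁻¹)⁻¹ * (g * x * g⁻¹)⁻¹ =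
      g * (c * x * c⁻¹ * x⁻¹) * g⁻¹ := fun x => by group
  obtain ⟨⟨x, hx, a1, a2, a3⟩, w, hw, b1, b2⟩ := o
  exact ⟨⟨_, (B x hx a1).1, (B x hx a1).2, by rwa [pt_conj], by rwa [e, pt_conj]⟩,
    _, (B w hw b1).1, (B w hw b1).2, by rwa [e, pt_conj]⟩

theorem res_top [Finite G] [IsSimpleGroup G] : Cfsg.pResidual 2 G = ⊤ := by
  have : Fact (Nat.Prime 2) := ⟨Nat.prime_two⟩
  refine (Normal.eq_bot_or_eq_top (pResidual_normal 2 G)).resolve_left fun e => ?_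
  have := (isPGroup_iff_pResidual_eq_bot.2 e).center_nontrivial
  have c := (Normal.eq_bot_or_eq_top (inferInstance : (center G).Normal)).resolve_left
    ((center G).nontrivial_iff_ne_bot.1 this)
  obtain ⟨v, hv, ev⟩ := h.surj 4 (by norm_num)
  obtain ⟨w, hw, ew⟩ := h.surj 48 (by norm_num)
  have := (h.toEK.comm_iff hv hw).1 (mem_center_iff.1 (c.ge (mem_top w)) v)
  rw [ev, ew] at this
  exact absurd this (by decide +kernel)

theorem no_aj [Finite G] [IsSimpleGroup G] {y : G} (hy : Ac t E κ y aj) (yy : y * y = 1) : False := by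
  have mz : ∀ {c d : G}, c ∈ centralizer ({d} : Set G) ↔ c * d = d * c := mem_centralizer_singleton_iff
  obtain ⟨ϕ, hϕ⟩ := exists_hom h
  have ty : Ty t E κ y 2 := ⟨by norm_num, 20, 20, sl20, sl20, hy⟩
  have y1 : ϕ ⟨y, mz.2 hy.1⟩ ≠ 1 := fun e => absurd ((hϕ ⟨y, _⟩ 2 ty).1 e) (by norm_num)
  obtain ⟨g, g1, g2, g3⟩ := MSS.extremal_transfer (odd_index h)
    (IsPGroup.of_card (n := 1) (by simp)) ϕ (res_top h ▸ mem_top y) yy (mz.2 hy.1) y1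
    (fun g _ => (by decide : ∀ a b : Multiplicative (ZMod 2), b ≠ 1 → a = 1 ∨ a = b) _ _ y1)
    (R := E ⊓ centralizer {y}) ((pE h).to_le inf_le_left) inf_le_right
  have tr : ∀ a, g * a * g⁻¹ ∈ centralizer {t} → g⁻¹ * t * g * a = a * (g⁻¹ * t * g) := fun a e => by
    calc _ = g⁻¹ * (t * (g * a * g⁻¹)) * g := by group
      _ = _ := by rw [← mz.1 e]; group
  have cA : ∀ a ∈ E, y * a = a * y → g⁻¹ * t * g * a = a * (g⁻¹ * t * g) := fun a ha e =>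
    tr a (g3 ⟨a, ⟨ha, mz.2 e.symm⟩, rfl⟩)
  rcases dich h hy yy (cA t h.tE hy.1) fun a ha e => (by
    rw [cA a ha e, mul_inv_cancel_right, mul_inv_cancel, h.toEK.κ_one]; decide) with k | k
  swap
  · exact lemC h (g := g⁻¹) (by rwa [inv_inv])
  have k' : g * t * g⁻¹ ∈ E := by
    have := h.symm (g := g⁻¹) (by rwa [inv_inv])
    rwa [inv_inv] at this
  by_cases e : g * t = t * g
  · refine y1 ?_
    rw [show (⟨g * y * g⁻¹, g1⟩ : centralizer ({t} : Set G)) =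
      ⟨g, mz.2 e⟩ * ⟨y, mz.2 hy.1⟩ * (⟨g, mz.2 e⟩ : centralizer ({t} : Set G))⁻¹ from rfl,
      map_mul, map_mul, map_inv, mul_inv_cancel_comm] at g2
    exact g2
  obtain ⟨v, hv, ev⟩ := h.surj 4 (by norm_num)
  obtain ⟨m, m1, m2⟩ := h.to4 k' (((h.cls _ k').1 (isConj_iff.2 ⟨g, rfl⟩)).resolve_left
    fun e' => e (comm_of_conj e')) hv ev
  obtain ⟨n, n1, n2⟩ := h.to4 k (((h.cls _ k).1 (isConj_iff.2 ⟨g⁻¹, by rw [inv_inv]⟩)).resolve_left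
    fun e' => e (by rw [mul_assoc, inv_mul_eq_iff_eq_mul] at e'; exact e'.symm)) hv ev
  have inv : ∀ (p c : G) (hp : p * t = t * p) (hc : c ∈ centralizer {t}), ∃ e,
      Ty t E κ (p * c * p⁻¹) e ∧ (ϕ ⟨c, hc⟩ = 1 ↔ e < 2) := fun p c hp hc => by
    have h1 : p * c * p⁻¹ ∈ centralizer {t} := mul_mem (mul_mem (mz.2 hp) hc) (inv_mem (mz.2 hp))
    obtain ⟨e, he⟩ := ty_ex h (mz.1 h1)
    refine ⟨e, he, Iff.trans ?_ (hϕ ⟨_, h1⟩ e he)⟩
    rw [show (⟨p * c * p⁻¹, h1⟩ : centralizer ({t} : Set G)) =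
      ⟨p, mz.2 hp⟩ * ⟨c, hc⟩ * (⟨p, mz.2 hp⟩ : centralizer ({t} : Set G))⁻¹ from rfl,
      map_mul, map_mul, map_inv, mul_inv_cancel_comm]
  obtain ⟨e1, a1, a2⟩ := inv n y n1 (mz.2 hy.1)
  obtain ⟨e2, b1, b2⟩ := inv m _ m1 g1
  have o := (od_iff h a1 hv ev (by
    rw [← n2, conj_mul, conj_mul, tr y g1])).2 (not_lt.1 (mt a2.2 y1))
  have o' := od_conj h (g := m * g * n⁻¹) hv ev (by
    rw [← m2, mul_assoc _ _ t, comm_inv n1]; group) (by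
    rw [← n2, show (m * g * n⁻¹)⁻¹ * t * (m * g * n⁻¹) = n * (g⁻¹ * (m⁻¹ * t * m) * g) * n⁻¹ by group,
      comm_inv m1, inv_mul_cancel_right]) o
  rw [show m * g * n⁻¹ * (n * y * n⁻¹) * (m * g * n⁻¹)⁻¹ = m * (g * y * g⁻¹) * m⁻¹ by group,
    od_iff h b1 hv ev (by rw [← m2, conj_mul, conj_mul, conj_mul, conj_mul, hy.1])] at o'
  exact absurd (b2.1 g2) (by omega)

end Ou

theorem Kt.two [Finite G] [IsSimpleGroup G] (h : Kt 4 t E κ) : Kt 2 t E κ :=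
  { h with
    ac := fun g hg => by
      obtain ⟨a, b, e, ha, hb, he, k⟩ := h.ac g hg
      refine ⟨a, b, e, ha, hb, not_le.1 fun e2 => ?_, k⟩
      obtain ⟨f, hf⟩ := Ou.exists_aj h ⟨he, a, b, ha, hb, k⟩ e2
      obtain ⟨y, hy, yy⟩ := Ou.exists_inv h hf
      exact Ou.no_aj h hy yy }

end CL.HK
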